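import Cfsg.Agent.H958.L34.Tab5

/-!
# S5917, case E2d: the two components `A₄` of the centralizer of an element of order 5 of type `A₄A₄` on the Lie algebra
  of `E₈` in characteristic two (helper531)

`J k M` (helper958) is the copy of the matrix `M` of trace zero in the component `k`.

* `J_br`, `J_br_ne` : the bracket;
* `J_sq` : the restricted square;
* `J_xr`, `J_xr_ne` : the root elements act by conjugation.
-/

set_option autoImplicit false
set_option maxRecDepth 100000

namespace Cfsg.Agent.H531.L34

open Matrix hiding J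
open Cfsg Cfsg.Lie Cfsg.Lie.ChevalleyDatum
open Cfsg.Agent.ChevalleyStructure.Columns (car cor)
open Cfsg.Agent.H939.L64
open Cfsg.Agent.H413.L16
open Cfsg.Agent.H876.L64 (two_zero)
open Cfsg.Agent.H201.L34
open Cfsg.Agent.H958.L34

/-! ### tables -/

theorem lt_tab : ∀ (k : Fin 2) (i j : Fin 5), i ≠ j → a5 k i j < 240 ∧ 239 - a5 k i j = a5 k j i := by decide +kernel

theorem diag_tab : ∀ (k : Fin 2) (i : Fin 5), a5 k i i = 240 := by decide +kernel

theorem inj_tab : ∀ (k l : Fin 2) (i j m n : Fin 5), i ≠ j → a5 k i j = a5 l m n → k = l ∧ i = m ∧ j = n := by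
  decide +kernel

theorem tg_tab : ∀ (k : Fin 2) (i j l m : Fin 5), i ≠ j → l ≠ m → ¬ (l = j ∧ m = i) →
    tg (a5 k i j) (a5 k l m) = if l = j then a5 k i m else if m = i then a5 k l j else 240 := by decide +kernel

theorem tg_ne_tab : ∀ (k n : Fin 2), k ≠ n → ∀ (i j l m : Fin 5), i ≠ j → l ≠ m → tg (a5 k i j) (a5 n l m) = 240 := by
  decide +kernel

theorem hr_tab : ∀ (k : Fin 2) (i j : Fin 5) (x : Fin 8), i ≠ j →
    ((∑ t : Fin 4, (if (i ≤ t.castSucc ∧ t.castSucc < j) ∨ (j ≤ t.castSucc ∧ t.castSucc < i) then 1 else 0) *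
      cor chevE8 (a5 k t.castSucc t.succ) x) - cor chevE8 (a5 k i j) x) % 2 = 0 := by decide +kernel

theorem hc_tab : ∀ (k : Fin 2) (i j : Fin 5) (t : Fin 4), i ≠ j →
    ((∑ x : Fin 8, cor chevE8 (a5 k t.castSucc t.succ) x * car chevE8 x (a5 k i j)) -
      ((if j = t.castSucc then 1 else 0) + (if j = t.succ then 1 else 0) + (if t.castSucc = i then 1 else 0) +
        (if t.succ = i then 1 else 0))) % 2 = 0 := by decide +kernel

theorem hc_ne_tab : ∀ (k n : Fin 2), k ≠ n → ∀ (i j : Fin 5) (t : Fin 4), i ≠ j →
    (∑ x : Fin 8, cor chevE8 (a5 k t.castSucc t.succ) x * car chevE8 x (a5 n i j)) % 2 = 0 := by decide +kernel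

/-! ### the map `J` -/

theorem tz : (2 : KK) = 0 := two_zero

theorem ps_eq (M : Matrix (Fin 5) (Fin 5) KK) (t : Fin 4) :
    ps M t = ∑ u : Fin 5, if u ≤ t.castSucc then M u u else 0 := by
  rw [Fin.sum_univ_five]
  fin_cases t <;> simp [ps]

theorem ps_add' (M N : Matrix (Fin 5) (Fin 5) KK) (t : Fin 4) : ps (M + N) t = ps M t + ps N t := by
  rw [ps_eq, ps_eq, ps_eq, ← Finset.sum_add_distrib]
  refine Finset.sum_congr rfl fun u _ => ?_
  split_ifs
  · rfl
  · rw [add_zero]

theorem J_zero' (k : Fin 2) : J k 0 = 0 := by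
  have h := J_add k 0 0
  rw [add_zero] at h
  exact left_eq_add.1 h

theorem ps_single {i j : Fin 5} (hij : i ≠ j) (c : KK) (t : Fin 4) : ps (single i j c) t = 0 := by
  rw [ps_eq]
  refine Finset.sum_eq_zero fun u _ => ?_
  split_ifs
  · rw [single_apply, if_neg]
    rintro ⟨h1, h2⟩
    exact hij (h1.trans h2.symm)
  · rfl

theorem ps_single_diag (i : Fin 5) (c : KK) (t : Fin 4) : ps (single i i c) t = if i ≤ t.castSucc then c else 0 := by
  rw [ps_eq, Finset.sum_eq_single i]
  · rw [single_apply_same]
  · intro b _ hb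
    split_ifs
    · rw [single_apply, if_neg (fun h => hb h.1.symm)]
    · rfl
  · intro h
    exact absurd (Finset.mem_univ _) h

theorem J_single (k : Fin 2) {i j : Fin 5} (hij : i ≠ j) (c : KK) : J k (single i j c) = c • er (a5 k i j) := by
  unfold J
  rw [Finset.sum_eq_single i, Finset.sum_eq_single j, single_apply_same]
  · rw [Finset.sum_eq_zero (s := (Finset.univ : Finset (Fin 4))), add_zero]
    intro t _
    rw [ps_single hij, zero_smul]
  · intro b _ hb
    rw [single_apply, if_neg (fun h => hb h.2.symm), zero_smul]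
  · intro h
    exact absurd (Finset.mem_univ _) h
  · intro b _ hb
    refine Finset.sum_eq_zero fun q _ => ?_
    rw [single_apply, if_neg (fun h => hb h.1.symm), zero_smul]
  · intro h
    exact absurd (Finset.mem_univ _) h

theorem hr_sum (k : Fin 2) {i j : Fin 5} (hij : i ≠ j) : hr (a5 k i j) =
    ∑ t : Fin 4, (if (i ≤ t.castSucc ∧ t.castSucc < j) ∨ (j ≤ t.castSucc ∧ t.castSucc < i) then (1 : KK) else 0) •
      hr (a5 k t.castSucc t.succ) := by
  funext a
  rw [Finset.sum_apply]
  rcases a with a | a
  · have h := cast_congr (hr_tab k i j (a.cast rk8) hij)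
    have e : ((a.cast rk8 : Fin 8) : ℕ) = a := rfl
    rw [e] at h
    change ((cor chevE8 (a5 k i j) a : ℤ) : KK) = _
    rw [← h, Int.cast_sum]
    refine Finset.sum_congr rfl fun t _ => ?_
    rw [Pi.smul_apply, smul_eq_mul, Int.cast_mul]
    congr 1
    split_ifs
    · exact Int.cast_one
    · exact Int.cast_zero
  · rw [hr_inr]
    symm
    refine Finset.sum_eq_zero fun t _ => ?_
    rw [Pi.smul_apply, hr_inr, smul_zero]

theorem J_pair (k : Fin 2) {i j : Fin 5} (hij : i ≠ j) (c : KK) :
    J k (single i i c + single j j c) = c • hr (a5 k i j) := by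
  rw [hr_sum k hij, Finset.smul_sum]
  unfold J
  have h1 : (∑ p, ∑ q, (single i i c + single j j c) p q • er (a5 k p q)) = 0 := by
    refine Finset.sum_eq_zero fun p _ => Finset.sum_eq_zero fun q _ => ?_
    by_cases hpq : p = q
    · rw [hpq, diag_tab, er_ge le_rfl, smul_zero]
    · rw [Matrix.add_apply, single_apply, single_apply, if_neg (fun h => hpq (h.1.symm.trans h.2)),
        if_neg (fun h => hpq (h.1.symm.trans h.2)), add_zero, zero_smul]
  rw [h1, zero_add]
  refine Finset.sum_congr rfl fun t _ => ?_
  rw [smul_smul]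
  congr 1
  rw [ps_add', ps_single_diag, ps_single_diag]
  have hne : (i : ℕ) ≠ j := fun h => hij (Fin.ext h)
  by_cases h1 : i ≤ t.castSucc <;> by_cases h2 : j ≤ t.castSucc
  · rw [if_pos h1, if_pos h2, if_neg, mul_zero]
    · linear_combination c * tz
    · rintro (h | h)
      · exact absurd h.2 (not_lt.2 h2)
      · exact absurd h.2 (not_lt.2 h1)
  · rw [if_pos h1, if_neg h2, if_pos (Or.inl ⟨h1, not_le.1 h2⟩), mul_one, add_zero]
  · rw [if_neg h1, if_pos h2, if_pos (Or.inr ⟨h2, not_le.1 h1⟩), mul_one, zero_add]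
  · rw [if_neg h1, if_neg h2, if_neg, mul_zero, add_zero]
    rintro (h | h)
    · exact h1 h.1
    · exact h2 h.1

/-- induction on the matrices of trace zero -/
theorem tz_induction {P : Matrix (Fin 5) (Fin 5) KK → Prop}
    (hadd : ∀ M N : Matrix (Fin 5) (Fin 5) KK, M.trace = 0 → N.trace = 0 → P M → P N → P (M + N))
    (hE : ∀ i j : Fin 5, i ≠ j → ∀ c : KK, P (single i j c))
    (hD : ∀ (t : Fin 4) (c : KK), P (single t.castSucc t.castSucc c + single t.succ t.succ c))
    {M : Matrix (Fin 5) (Fin 5) KK} (hM : M.trace = 0) : P M := by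
  have hadd' : ∀ A B : Matrix (Fin 5) (Fin 5) KK, (A.trace = 0 ∧ P A) → (B.trace = 0 ∧ P B) →
      ((A + B).trace = 0 ∧ P (A + B)) := fun A B h1 h2 => by
    refine ⟨?_, hadd A B h1.1 h2.1 h1.2 h2.2⟩
    rw [trace_add, h1.1, h2.1, add_zero]
  have h0 : (0 : Matrix (Fin 5) (Fin 5) KK).trace = 0 ∧ P 0 := by
    refine ⟨trace_zero _ _, ?_⟩
    have h := hE 0 1 (by decide) 0
    rwa [single_zero] at h
  have h1 : M = (∑ i, ∑ j, if i = j then 0 else single i j (M i j)) +
      ∑ t : Fin 4, (single t.castSucc t.castSucc (ps M t) + single t.succ t.succ (ps M t)) := by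
    ext p q
    rw [Matrix.add_apply, Matrix.sum_apply, Matrix.sum_apply]
    have h2 : ∑ i : Fin 5, (∑ j : Fin 5, if i = j then (0 : Matrix (Fin 5) (Fin 5) KK) else single i j (M i j)) p q =
        if p = q then 0 else M p q := by
      rw [Finset.sum_eq_single p]
      · rw [Matrix.sum_apply, Finset.sum_eq_single q]
        · split_ifs
          · rfl
          · rw [single_apply_same]
        · intro b _ hb
          split_ifs
          · rfl
          · rw [single_apply, if_neg (fun h => hb h.2)]
        · intro h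
          exact absurd (Finset.mem_univ _) h
      · intro b _ hb
        rw [Matrix.sum_apply]
        refine Finset.sum_eq_zero fun j _ => ?_
        split_ifs
        · rfl
        · rw [single_apply, if_neg (fun h => hb h.1)]
      · intro h
        exact absurd (Finset.mem_univ _) h
    rw [h2]
    by_cases hpq : p = q
    · subst hpq
      rw [if_pos rfl, zero_add, Fin.sum_univ_four]
      have h3 : M 0 0 + M 1 1 + M 2 2 + M 3 3 + M 4 4 = 0 := by
        rw [trace, Fin.sum_univ_five] at hM
        exact hM
      simp only [Matrix.add_apply, single_apply, and_self]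
      fin_cases p
      · simp [ps]
      · simp [ps]
        linear_combination (-M 0 0) * tz
      · simp [ps]
        linear_combination (-M 0 0 - M 1 1) * tz
      · simp [ps]
        linear_combination (-M 0 0 - M 1 1 - M 2 2) * tz
      · simp [ps]
        linear_combination h3 - (M 0 0 + M 1 1 + M 2 2 + M 3 3) * tz
    · rw [if_neg hpq, Finset.sum_eq_zero, add_zero]
      intro t _
      rw [Matrix.add_apply, single_apply, single_apply, if_neg (fun h => hpq (h.1.symm.trans h.2)),
        if_neg (fun h => hpq (h.1.symm.trans h.2)), add_zero]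
  have h2 : M.trace = 0 ∧ P M := by
    rw [h1]
    refine hadd' _ _ ?_ ?_
    · refine Finset.sum_induction _ (fun A : Matrix (Fin 5) (Fin 5) KK => A.trace = 0 ∧ P A) hadd' h0 fun i _ => ?_
      refine Finset.sum_induction _ (fun A : Matrix (Fin 5) (Fin 5) KK => A.trace = 0 ∧ P A) hadd' h0 fun j _ => ?_
      split_ifs with hij
      · exact h0
      · refine ⟨?_, hE i j hij _⟩
        rw [trace_single_eq_of_ne _ _ _ hij]
    · refine Finset.sum_induction _ (fun A : Matrix (Fin 5) (Fin 5) KK => A.trace = 0 ∧ P A) hadd' h0 fun t _ => ?_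
      refine ⟨?_, hD t _⟩
      rw [trace_add, trace_single_eq_same, trace_single_eq_same]
      linear_combination (ps M t) * tz
  exact h2.2

/-! ### the bracket -/

theorem br_EE (k : Fin 2) {i j l m : Fin 5} (hij : i ≠ j) (hlm : l ≠ m) (c d : KK) :
    brK (J k (single i j c)) (J k (single l m d)) = J k (single i j c * single l m d + single l m d * single i j c) := by
  have hl := (lt_tab k i j hij).1
  have hl' := (lt_tab k l m hlm).1
  rw [J_single k hij, J_single k hlm, br_smul_l, br_smul_r, smul_smul]
  by_cases h : l = j ∧ m = i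
  · obtain ⟨rfl, rfl⟩ := h
    rw [← (lt_tab k m l hij).2, br_neg hl, single_mul_single_same, single_mul_single_same, mul_comm d c, J_pair k hij]
  · have hn : a5 k l m ≠ 239 - a5 k i j := by
      rw [(lt_tab k i j hij).2]
      intro h1
      obtain ⟨-, h2, h3⟩ := inj_tab _ _ _ _ _ _ hlm h1
      exact h ⟨h2, h3⟩
    rw [br_rr hl hl' hn, tg_tab k i j l m hij hlm h]
    by_cases h1 : l = j
    · subst h1
      have h2 : m ≠ i := fun h3 => h ⟨rfl, h3⟩
      rw [if_pos rfl, single_mul_single_same, single_mul_single_of_ne _ _ _ _ h2, add_zero, J_single k h2.symm]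
    · rw [if_neg h1, single_mul_single_of_ne _ _ _ _ (fun h3 => h1 h3.symm), zero_add]
      by_cases h2 : m = i
      · subst h2
        rw [if_pos rfl, single_mul_single_same, J_single k h1, mul_comm]
      · rw [if_neg h2, er_ge le_rfl, smul_zero, single_mul_single_of_ne _ _ _ _ h2, J_zero']

theorem single_mul_diag (i j t : Fin 5) (c d : KK) :
    single i j c * single t t d = single i j (if j = t then c * d else 0) := by
  split_ifs with h
  · subst h
    rw [single_mul_single_same]
  · rw [single_mul_single_of_ne _ _ _ _ h, single_zero]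

theorem diag_mul_single (i j t : Fin 5) (c d : KK) :
    single t t d * single i j c = single i j (if t = i then c * d else 0) := by
  split_ifs with h
  · subst h
    rw [single_mul_single_same, mul_comm]
  · rw [single_mul_single_of_ne _ _ _ _ h, single_zero]

theorem tne (t : Fin 4) : t.castSucc ≠ t.succ := (Fin.castSucc_lt_succ).ne

theorem hc_val (k : Fin 2) {i j : Fin 5} (hij : i ≠ j) (t : Fin 4) :
    ∑ x : Fin chevE8.rank, ((cor chevE8 (a5 k t.castSucc t.succ) x : ℤ) : KK) * ((car chevE8 x (a5 k i j) : ℤ) : KK) =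
      (if j = t.castSucc then 1 else 0) + (if j = t.succ then 1 else 0) + (if t.castSucc = i then 1 else 0) +
        (if t.succ = i then 1 else 0) := by
  have h := cast_congr (hc_tab k i j t hij)
  push_cast at h
  rw [← h]
  exact Fintype.sum_equiv (finCongr rk8) _ _ fun x => rfl

theorem br_ED (k : Fin 2) {i j : Fin 5} (hij : i ≠ j) (t : Fin 4) (c d : KK) :
    brK (J k (single i j c)) (J k (single t.castSucc t.castSucc d + single t.succ t.succ d)) =
      J k (single i j c * (single t.castSucc t.castSucc d + single t.succ t.succ d) +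
        (single t.castSucc t.castSucc d + single t.succ t.succ d) * single i j c) := by
  have hl := (lt_tab k i j hij).1
  rw [mul_add, add_mul, single_mul_diag, single_mul_diag, diag_mul_single, diag_mul_single, ← single_add,
    ← single_add, ← single_add, J_single k hij, J_single k hij, J_pair k (tne t), br_smul_l, br_smul_r]
  unfold hr
  rw [br_er_hv _ hl, hc_val k hij, smul_smul, smul_smul]
  congr 1
  split_ifs <;> ring

theorem br_DD (k : Fin 2) (t u : Fin 4) (c d : KK) :
    brK (J k (single t.castSucc t.castSucc c + single t.succ t.succ c))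
        (J k (single u.castSucc u.castSucc d + single u.succ u.succ d)) =
      J k ((single t.castSucc t.castSucc c + single t.succ t.succ c) * (single u.castSucc u.castSucc d + single u.succ u.succ d) +
        (single u.castSucc u.castSucc d + single u.succ u.succ d) * (single t.castSucc t.castSucc c + single t.succ t.succ c)) := by
  have h1 : (single t.castSucc t.castSucc c + single t.succ t.succ c : Matrix (Fin 5) (Fin 5) KK) *
      (single u.castSucc u.castSucc d + single u.succ u.succ d) =
      (single u.castSucc u.castSucc d + single u.succ u.succ d) * (single t.castSucc t.castSucc c + single t.succ t.succ c) := by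
    have h2 : ∀ (i : Fin 5) (e : KK), (single i i e : Matrix (Fin 5) (Fin 5) KK) = diagonal (Pi.single i e) := by
      intro i e
      rw [diagonal_single]
    rw [h2, h2, h2, h2, diagonal_add, diagonal_add, diagonal_mul_diagonal, diagonal_mul_diagonal]
    congr 1
    funext i
    rw [mul_comm]
  rw [h1, J_pair k (tne t), J_pair k (tne u), br_smul_l, br_smul_r]
  unfold hr
  rw [br_hh, smul_zero, smul_zero, J_add, add_self']

/-- **the bracket on one component** -/
theorem J_br (k : Fin 2) {M N : Matrix (Fin 5) (Fin 5) KK} (hM : M.trace = 0) (hN : N.trace = 0) :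
    brK (J k M) (J k N) = J k (M * N + N * M) := by
  revert hN
  refine tz_induction (P := fun M => ∀ {N : Matrix (Fin 5) (Fin 5) KK}, N.trace = 0 →
    brK (J k M) (J k N) = J k (M * N + N * M)) ?_ ?_ ?_ hM
  · intro A B _ _ hA hB N hN
    rw [J_add, br_add_l, hA hN, hB hN, ← J_add]
    congr 1
    noncomm_ring
  · intro i j hij c N hN
    refine tz_induction (P := fun N => brK (J k (single i j c)) (J k N) = J k (single i j c * N + N * single i j c))
      ?_ ?_ ?_ hN
    · intro A B _ _ hA hB
      rw [J_add k A B, br_add_r, hA, hB, ← J_add]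
      congr 1
      noncomm_ring
    · intro l m hlm d
      exact br_EE k hij hlm c d
    · intro t d
      exact br_ED k hij t c d
  · intro t c N hN
    refine tz_induction (P := fun N => brK (J k (single t.castSucc t.castSucc c + single t.succ t.succ c)) (J k N) =
      J k ((single t.castSucc t.castSucc c + single t.succ t.succ c) * N +
        N * (single t.castSucc t.castSucc c + single t.succ t.succ c))) ?_ ?_ ?_ hN
    · intro A B _ _ hA hB
      rw [J_add k A B, br_add_r, hA, hB, ← J_add]
      congr 1
      noncomm_ring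
    · intro i j hij d
      rw [br_comm, br_ED k hij t d c, add_comm]
    · intro u d
      exact br_DD k t u c d

/-! ### the restricted square -/

/-- **the restricted square on one component** -/
theorem J_sq (k : Fin 2) {M : Matrix (Fin 5) (Fin 5) KK} (hM : M.trace = 0) : Cfsg.Agent.H201.L34.sq (J k M) = J k (M * M) := by
  refine tz_induction (P := fun M => Cfsg.Agent.H201.L34.sq (J k M) = J k (M * M)) ?_ ?_ ?_ hM
  · intro A B hA0 hB0 hA hB
    rw [J_add, sq_add, hA, hB, J_br k hA0 hB0, ← J_add, ← J_add]
    congr 1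
    noncomm_ring
  · intro i j hij c
    rw [J_single k hij, sq_smul, sq_er, smul_zero, single_mul_single_of_ne _ _ _ _ hij.symm, J_zero']
  · intro t c
    have h1 : (single t.castSucc t.castSucc c + single t.succ t.succ c : Matrix (Fin 5) (Fin 5) KK) *
        (single t.castSucc t.castSucc c + single t.succ t.succ c) =
        single t.castSucc t.castSucc (c * c) + single t.succ t.succ (c * c) := by
      rw [mul_add, add_mul, add_mul, single_mul_single_same, single_mul_single_same,
        single_mul_single_of_ne _ _ _ _ (tne t), single_mul_single_of_ne _ _ _ _ (tne t).symm, add_zero, zero_add]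
    rw [h1, J_pair k (tne t), J_pair k (tne t), sq_smul, sq_hr, pow_two]

/-! ### the two components commute -/

theorem J_left_zero (k : Fin 2) (M : Matrix (Fin 5) (Fin 5) KK) {v : LK}
    (h1 : ∀ i j : Fin 5, i ≠ j → brK (er (a5 k i j)) v = 0)
    (h2 : ∀ t : Fin 4, brK (hr (a5 k t.castSucc t.succ)) v = 0) : brK (J k M) v = 0 := by
  have h3 : brM.flip v (J k M) = 0 := by
    unfold J
    rw [map_add, map_sum, map_sum, Finset.sum_eq_zero, Finset.sum_eq_zero, add_zero]
    · intro t _
      rw [map_smul]
      have h4 : brM.flip v (hr (a5 k t.castSucc t.succ)) = 0 := h2 t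
      rw [h4, smul_zero]
    · intro i _
      rw [map_sum]
      refine Finset.sum_eq_zero fun j _ => ?_
      rw [map_smul]
      by_cases hij : i = j
      · rw [hij, diag_tab, er_ge le_rfl, map_zero, smul_zero]
      · have h4 : brM.flip v (er (a5 k i j)) = 0 := h1 i j hij
        rw [h4, smul_zero]
  exact h3

theorem er_er_ne {k l : Fin 2} (h : k ≠ l) {i j m n : Fin 5} (hij : i ≠ j) (hmn : m ≠ n) :
    brK (er (a5 k i j)) (er (a5 l m n)) = 0 := by
  rw [br_rr (lt_tab k i j hij).1 (lt_tab l m n hmn).1, tg_ne_tab k l h i j m n hij hmn, er_ge le_rfl]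
  rw [(lt_tab k i j hij).2]
  intro h1
  exact h (inj_tab _ _ _ _ _ _ hmn h1).1.symm

theorem er_hr_ne {k l : Fin 2} (h : k ≠ l) {i j : Fin 5} (hij : i ≠ j) (t : Fin 4) :
    brK (er (a5 k i j)) (hr (a5 l t.castSucc t.succ)) = 0 := by
  unfold hr
  rw [br_er_hv _ (lt_tab k i j hij).1]
  have h1 := cast_even (hc_ne_tab l k (Ne.symm h) i j t hij)
  push_cast at h1
  have h2 : ∑ x : Fin chevE8.rank, ((cor chevE8 (a5 l t.castSucc t.succ) x : ℤ) : KK) *
      ((car chevE8 x (a5 k i j) : ℤ) : KK) = 0 := by
    rw [← h1]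
    exact Fintype.sum_equiv (finCongr rk8) _ _ fun x => rfl
  rw [h2, zero_smul]

theorem er_J_ne {k l : Fin 2} (h : k ≠ l) {a b : Fin 5} (hab : a ≠ b) (N : Matrix (Fin 5) (Fin 5) KK) :
    brK (er (a5 k a b)) (J l N) = 0 := by
  rw [br_comm]
  refine J_left_zero l N (fun i j hij => ?_) fun t => ?_
  · exact er_er_ne h.symm hij hab
  · rw [br_comm]
    exact er_hr_ne h hab t

/-- **the two components commute** -/
theorem J_br_ne {k l : Fin 2} (h : k ≠ l) (M N : Matrix (Fin 5) (Fin 5) KK) : brK (J k M) (J l N) = 0 := by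
  refine J_left_zero k M (fun i j hij => er_J_ne h hij N) fun t => ?_
  rw [br_comm]
  refine J_left_zero l N (fun i j hij => ?_) fun u => ?_
  · exact er_hr_ne h.symm hij t
  · exact br_hh _ _

/-! ### the root elements -/

theorem J_inr (k : Fin 2) (M : Matrix (Fin 5) (Fin 5) KK) (s : Fin chevE8.nroots) :
    J k M (Sum.inr s) = ∑ i, ∑ j, if a5 k i j = s then M i j else 0 := by
  unfold J
  rw [Pi.add_apply, Finset.sum_apply, Finset.sum_apply, Finset.sum_eq_zero (s := (Finset.univ : Finset (Fin 4))),
    add_zero]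
  · refine Finset.sum_congr rfl fun i _ => ?_
    rw [Finset.sum_apply]
    refine Finset.sum_congr rfl fun j _ => ?_
    rw [Pi.smul_apply, er_inr, smul_eq_mul]
    split_ifs
    · rw [mul_one]
    · rw [mul_zero]
  · intro t _
    rw [Pi.smul_apply, hr_inr, smul_zero]

/-- the coordinate at `e_b - e_a` -/
theorem J_coord (k : Fin 2) {a b : Fin 5} (hab : a ≠ b) (M : Matrix (Fin 5) (Fin 5) KK) (s : Fin chevE8.nroots)
    (hs : (s : ℕ) = 239 - a5 k a b) : J k M (Sum.inr s) = M b a := by
  rw [(lt_tab k a b hab).2] at hs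
  rw [J_inr, Finset.sum_eq_single b, Finset.sum_eq_single a, if_pos hs.symm]
  · intro j _ hj
    rw [if_neg]
    intro h
    exact hj (inj_tab _ _ _ _ _ _ hab.symm (hs.symm.trans h.symm)).2.2.symm
  · intro h
    exact absurd (Finset.mem_univ _) h
  · intro i _ hi
    refine Finset.sum_eq_zero fun j _ => ?_
    rw [if_neg]
    intro h
    exact hi (inj_tab _ _ _ _ _ _ hab.symm (hs.symm.trans h.symm)).2.1.symm
  · intro h
    exact absurd (Finset.mem_univ _) h

theorem J_coord_ne {k l : Fin 2} (h : k ≠ l) {a b : Fin 5} (hab : a ≠ b) (M : Matrix (Fin 5) (Fin 5) KK)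
    (s : Fin chevE8.nroots) (hs : (s : ℕ) = 239 - a5 k a b) : J l M (Sum.inr s) = 0 := by
  rw [(lt_tab k a b hab).2] at hs
  rw [J_inr]
  refine Finset.sum_eq_zero fun i _ => Finset.sum_eq_zero fun j _ => ?_
  rw [if_neg]
  intro h1
  exact h (inj_tab _ _ _ _ _ _ hab.symm (hs.symm.trans h1.symm)).1

/-- **the root elements of one component act by conjugation** -/
theorem J_xr (k : Fin 2) {a b : Fin 5} (hab : a ≠ b) (c : KK) {M : Matrix (Fin 5) (Fin 5) KK} (hM : M.trace = 0) :
    aK (xr (a5 k a b) c) (J k M) = J k ((1 + single a b c) * M * (1 + single a b c)) := by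
  have hr := (lt_tab k a b hab).1
  have h1 : (1 + single a b c) * M * (1 + single a b c) =
      M + (single a b c * M + M * single a b c) + single a b (c ^ 2 * M b a) := by
    have h2 : single a b c * M * single a b c = single a b (c ^ 2 * M b a) := by
      rw [single_mul_mul_single]
      congr 1
      ring
    rw [← h2]
    noncomm_ring
  have ht : (single a b c : Matrix (Fin 5) (Fin 5) KK).trace = 0 := trace_single_eq_of_ne _ _ _ hab
  rw [h1, J_add, J_add, ← J_br k ht hM, J_single k hab, J_single k hab, br_smul_l, aK_xr hr,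
    J_coord k hab M _ rfl]

/-- **the root elements of the other component act trivially** -/
theorem J_xr_ne {k l : Fin 2} (h : k ≠ l) {a b : Fin 5} (hab : a ≠ b) (c : KK) (M : Matrix (Fin 5) (Fin 5) KK) :
    aK (xr (a5 k a b) c) (J l M) = J l M := by
  rw [aK_xr (lt_tab k a b hab).1, er_J_ne h hab, smul_zero, add_zero, J_coord_ne h hab M _ rfl, mul_zero, zero_smul,
    add_zero]

end Cfsg.Agent.H531.L34
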