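import Mathlib.FieldTheory.IsAlgClosed.AlgebraicClosure
import Mathlib.LinearAlgebra.Matrix.SpecialLinearGroup
import Mathlib.RingTheory.Polynomial.Cyclotomic.Roots
import Mathlib.Algebra.CharP.Two
import Mathlib.Tactic.ComputeDegree
import Mathlib.Tactic.Module

/-!
# S5917, case E2d: an element of order 13 of the unitary group of size 5 over the field with four elements
  in the centralizer of a root of `X^4 + X^2 + X` (helper531)

* `exists_thirteen_gen` : over an algebraically closed field of characteristic 2; `exists_thirteen` : over the algebraic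
  closure of the field with two elements.
-/

set_option autoImplicit false
set_option linter.unusedSectionVars false

namespace Cfsg.Agent.H531.L34

open Matrix

section Idem

variable {K : Type*} [Field K] {n : Type*} [Fintype n] [DecidableEq n] {X : Matrix n n K}

/-- the Lagrange idempotent of the root `r` of `t^3 + t + 1` -/
def EE (X : Matrix n n K) (r : K) : Matrix n n K := X ^ 3 + r • X ^ 2 + (r ^ 2 + 1) • X

/-- the Lagrange idempotent of the root `0` -/
def E0 (X : Matrix n n K) : Matrix n n K := X ^ 3 + X + 1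

/-- the polynomial in `X` with the given values at the roots -/
def FF (X : Matrix n n K) (a b c x y z : K) : Matrix n n K := E0 X + x • EE X a + y • EE X b + z • EE X c

theorem X_mul_E0 (h : X ^ 4 + X ^ 2 + X = 0) : X * E0 X = 0 := by
  rw [E0, mul_add, mul_add, ← pow_succ', ← sq, mul_one, h]

theorem pol_mul_EE {r : K} (h1 : X * EE X r = r • EE X r) (s t v w : K) :
    (s • X ^ 3 + t • X ^ 2 + v • X + w • (1 : Matrix n n K)) * EE X r =
      (s * r ^ 3 + t * r ^ 2 + v * r + w) • EE X r := by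
  have h2 : X ^ 2 * EE X r = (r ^ 2) • EE X r := by
    rw [sq, mul_assoc, h1, mul_smul_comm, h1, smul_smul, sq]
  have h3 : X ^ 3 * EE X r = (r ^ 3) • EE X r := by
    rw [pow_succ, mul_assoc, h1, mul_smul_comm, h2, smul_smul]
    congr 1
    ring
  rw [add_mul, add_mul, add_mul, smul_mul_assoc, smul_mul_assoc, smul_mul_assoc, smul_mul_assoc, h3, h2, h1, one_mul]
  module

variable [CharP K 2]

theorem X_mul_EE (h : X ^ 4 + X ^ 2 + X = 0) {r : K} (hr : r ^ 3 = r + 1) : X * EE X r = r • EE X r := by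
  have h2 : (2 : K) = 0 := CharTwo.two_eq_zero
  have h5 : X ^ 4 = (-1 : K) • X ^ 2 + (-1 : K) • X := by
    rw [neg_one_smul, neg_one_smul, ← sub_eq_zero, ← h]
    abel
  have h4 : X * X ^ 3 = (-1 : K) • X ^ 2 + (-1 : K) • X := by rw [← h5, ← pow_succ']
  have h3 : X * X ^ 2 = X ^ 3 := by rw [← pow_succ']
  have h1 : X * X = X ^ 2 := by rw [sq]
  rw [EE, mul_add, mul_add, mul_smul_comm, mul_smul_comm, h4, h3, h1]
  match_scalars
  · ring
  · linear_combination (-1 : K) * hr - (r + 1) * h2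
  · ring

theorem EE_mul_EE (h : X ^ 4 + X ^ 2 + X = 0) {r : K} (hr : r ^ 3 = r + 1) (s : K) :
    EE X s * EE X r = (r ^ 3 + s * r ^ 2 + (s ^ 2 + 1) * r) • EE X r := by
  have h1 := pol_mul_EE (X_mul_EE h hr) 1 s (s ^ 2 + 1) 0
  rw [one_smul, zero_smul, add_zero, add_zero, one_mul] at h1
  rw [← h1]
  rfl

theorem EE_self (h : X ^ 4 + X ^ 2 + X = 0) {r : K} (hr : r ^ 3 = r + 1) : EE X r * EE X r = EE X r := by
  have h2 : (2 : K) = 0 := CharTwo.two_eq_zero
  rw [EE_mul_EE h hr]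
  have h3 : r ^ 3 + r * r ^ 2 + (r ^ 2 + 1) * r = 1 := by linear_combination 3 * hr + (2 * r + 1) * h2
  rw [h3, one_smul]

/-- the roots are `a`, `a^2`, `a^2 + a` -/
theorem EE_ne (h : X ^ 4 + X ^ 2 + X = 0) {r s : K} (hr : r ^ 3 = r + 1) (hs : s = r ^ 2 ∨ s = r ^ 2 + r) :
    EE X s * EE X r = 0 := by
  have h2 : (2 : K) = 0 := CharTwo.two_eq_zero
  rw [EE_mul_EE h hr]
  rw [← zero_smul K (EE X r)]
  congr 1
  rcases hs with hs | hs
  · rw [hs]
    linear_combination (r ^ 2 + r + 2) * hr + (r ^ 2 + 2 * r + 1) * h2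
  · rw [hs]
    linear_combination (r ^ 2 + 3 * r + 4) * hr + (2 * r ^ 2 + 4 * r + 2) * h2

theorem E0_EE (h : X ^ 4 + X ^ 2 + X = 0) {r : K} (hr : r ^ 3 = r + 1) : E0 X * EE X r = 0 := by
  have h2 : (2 : K) = 0 := CharTwo.two_eq_zero
  have h1 := pol_mul_EE (X_mul_EE h hr) 1 0 1 1
  rw [one_smul, zero_smul, add_zero, one_smul, one_smul, one_mul] at h1
  rw [E0, h1, ← zero_smul K (EE X r)]
  congr 1
  linear_combination hr + (r + 1) * h2

theorem E0_E0 (h : X ^ 4 + X ^ 2 + X = 0) : E0 X * E0 X = E0 X := by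
  have h1 := X_mul_E0 h
  have h2 : X ^ 3 * E0 X = 0 := by rw [pow_succ, mul_assoc, h1, mul_zero]
  nth_rewrite 1 [E0]
  rw [add_mul, add_mul, h1, h2, one_mul, zero_add, zero_add]

theorem comm_EE (r : K) : X * EE X r = EE X r * X := by
  rw [EE]
  simp only [mul_add, add_mul, mul_smul_comm, smul_mul_assoc, ← pow_succ, ← pow_succ']

theorem comm_E0 : X * E0 X = E0 X * X := by
  rw [E0]
  simp only [mul_add, add_mul, ← pow_succ, ← pow_succ', mul_one, one_mul]

theorem EE_E0 (h : X ^ 4 + X ^ 2 + X = 0) (r : K) : EE X r * E0 X = 0 := by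
  have h1 := X_mul_E0 h
  have h2 : X ^ 3 * E0 X = 0 := by rw [pow_succ, mul_assoc, h1, mul_zero]
  have h3 : X ^ 2 * E0 X = 0 := by rw [pow_succ, mul_assoc, h1, mul_zero]
  rw [EE, add_mul, add_mul, smul_mul_assoc, smul_mul_assoc, h1, h2, h3, smul_zero, smul_zero, add_zero, add_zero]

theorem root_sq {a : K} (ha : a ^ 3 = a + 1) : (a ^ 2) ^ 3 = a ^ 2 + 1 := by
  have h2 : (2 : K) = 0 := CharTwo.two_eq_zero
  linear_combination (a ^ 3 + a + 1) * ha + a * h2

theorem root_add {a : K} (ha : a ^ 3 = a + 1) : (a ^ 2 + a) ^ 3 = a ^ 2 + a + 1 := by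
  have h2 : (2 : K) = 0 := CharTwo.two_eq_zero
  linear_combination (a ^ 3 + 3 * a ^ 2 + 4 * a + 5) * ha + (3 * a ^ 2 + 4 * a + 2) * h2

theorem FF_mul (h : X ^ 4 + X ^ 2 + X = 0) {a : K} (ha : a ^ 3 = a + 1) (x y z x' y' z' : K) :
    FF X a (a ^ 2 + a) (a ^ 2) x y z * FF X a (a ^ 2 + a) (a ^ 2) x' y' z' =
      FF X a (a ^ 2 + a) (a ^ 2) (x * x') (y * y') (z * z') := by
  have h2 : (2 : K) = 0 := CharTwo.two_eq_zero
  have hb := root_add ha
  have hc := root_sq ha
  have e1 := EE_self h ha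
  have e2 := EE_self h hb
  have e3 := EE_self h hc
  have e4 : EE X (a ^ 2 + a) * EE X a = 0 := EE_ne h ha (Or.inr rfl)
  have e5 : EE X (a ^ 2) * EE X a = 0 := EE_ne h ha (Or.inl rfl)
  have e6 : EE X a * EE X (a ^ 2 + a) = 0 := EE_ne h hb (Or.inl (by
    linear_combination (-a - 2) * ha - (a ^ 2 + a + 1) * h2))
  have e7 : EE X (a ^ 2) * EE X (a ^ 2 + a) = 0 := EE_ne h hb (Or.inr (by
    linear_combination (-a - 2) * ha - (a ^ 2 + 2 * a + 1) * h2))
  have e8 : EE X a * EE X (a ^ 2) = 0 := EE_ne h hc (Or.inr (by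
    linear_combination (-a) * ha - (a ^ 2) * h2))
  have e9 : EE X (a ^ 2 + a) * EE X (a ^ 2) = 0 := EE_ne h hc (Or.inl (by
    linear_combination (-a) * ha))
  rw [FF, FF, FF]
  simp only [add_mul, mul_add, smul_mul_assoc, mul_smul_comm, e1, e2, e3, e4, e5, e6, e7, e8, e9, E0_E0 h,
    EE_E0 h, E0_EE h ha, E0_EE h hb, E0_EE h hc, smul_zero, add_zero, zero_add, smul_smul]
  rw [mul_comm x' x, mul_comm y' y, mul_comm z' z]

theorem FF_one {a : K} : FF X a (a ^ 2 + a) (a ^ 2) 1 1 1 = 1 := by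
  have h2 : (2 : K) = 0 := CharTwo.two_eq_zero
  rw [FF, EE, EE, EE, E0, one_smul, one_smul, one_smul]
  match_scalars
  · linear_combination 2 * h2
  · linear_combination (a ^ 4 + a ^ 3 + a ^ 2 + 2) * h2
  · ring
  · linear_combination (a ^ 2 + a) * h2

theorem FF_pow (h : X ^ 4 + X ^ 2 + X = 0) {a : K} (ha : a ^ 3 = a + 1) (x y z : K) (k : ℕ) :
    FF X a (a ^ 2 + a) (a ^ 2) x y z ^ k = FF X a (a ^ 2 + a) (a ^ 2) (x ^ k) (y ^ k) (z ^ k) := by
  induction k with
  | zero => rw [pow_zero, pow_zero, pow_zero, pow_zero, FF_one]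
  | succ k ih => rw [pow_succ, ih, FF_mul h ha, ← pow_succ, ← pow_succ, ← pow_succ]

/-- everything that commutes with `X` commutes with the polynomials in `X` -/
theorem commute_FF {Y : Matrix n n K} (hY : Commute Y X) (a b c x y z : K) : Commute Y (FF X a b c x y z) := by
  have h1 : ∀ r : K, Commute Y (EE X r) := fun r =>
    ((hY.pow_right 3).add_right ((hY.pow_right 2).smul_right r)).add_right (hY.smul_right _)
  have h2 : Commute Y (E0 X) := ((hY.pow_right 3).add_right hY).add_right (Commute.one_right Y)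
  exact ((h2.add_right ((h1 a).smul_right x)).add_right ((h1 b).smul_right y)).add_right ((h1 c).smul_right z)

theorem comm_FF (a b c x y z : K) : FF X a b c x y z * X = X * FF X a b c x y z := by
  rw [FF]
  simp only [mul_add, add_mul, mul_smul_comm, smul_mul_assoc, comm_EE, comm_E0]

end Idem

section Frob

variable {K : Type*} [Field K] [CharP K 2] {n : Type*} [Fintype n] [DecidableEq n]

/-- the transposed Frobenius -/
def ph (M : Matrix n n K) : Matrix n n K := (M.map (fun x => x ^ 4))ᵀ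

theorem ph_eq (M : Matrix n n K) : ph M = (M.map (iterateFrobenius K 2 2))ᵀ := by
  ext i j
  rw [ph, transpose_apply, transpose_apply, map_apply, map_apply, iterateFrobenius_def]
  norm_num

theorem ph_add (M N : Matrix n n K) : ph (M + N) = ph M + ph N := by
  rw [ph_eq, ph_eq, ph_eq, Matrix.map_add _ (map_add _), transpose_add]

theorem ph_mul (M N : Matrix n n K) : ph (M * N) = ph N * ph M := by
  rw [ph_eq, ph_eq, ph_eq, Matrix.map_mul, transpose_mul]

theorem ph_one : ph (1 : Matrix n n K) = 1 := by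
  rw [ph_eq, Matrix.map_one _ (map_zero _) (map_one _), transpose_one]

theorem ph_smul (r : K) (M : Matrix n n K) : ph (r • M) = r ^ 4 • ph M := by
  ext i j
  rw [ph, ph, transpose_apply, Matrix.smul_apply, transpose_apply, map_apply, map_apply, Matrix.smul_apply,
    smul_eq_mul, smul_eq_mul, mul_pow]

theorem ph_pow (M : Matrix n n K) (k : ℕ) : ph (M ^ k) = ph M ^ k := by
  induction k with
  | zero => rw [pow_zero, pow_zero, ph_one]
  | succ k ih => rw [pow_succ, ph_mul, ih, pow_succ']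

theorem det_ph (M : Matrix n n K) : (ph M).det = M.det ^ 4 := by
  rw [ph_eq, det_transpose, ← RingHom.mapMatrix_apply, ← RingHom.map_det, iterateFrobenius_def]
  norm_num

variable {X : Matrix n n K}

theorem ph_EE (hX : ph X = X) (r : K) : ph (EE X r) = EE X (r ^ 4) := by
  rw [EE, EE, ph_add, ph_add, ph_smul, ph_smul, ph_pow, ph_pow, hX]
  congr 2
  have h2 : (2 : K) = 0 := CharTwo.two_eq_zero
  linear_combination (2 * r ^ 6 + 3 * r ^ 4 + 2 * r ^ 2) * h2

theorem ph_E0 (hX : ph X = X) : ph (E0 X) = E0 X := by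
  rw [E0, ph_add, ph_add, ph_one, ph_pow, hX]

theorem ph_FF (hX : ph X = X) {a : K} (ha : a ^ 3 = a + 1) (x y z : K) :
    ph (FF X a (a ^ 2 + a) (a ^ 2) x y z) = FF X a (a ^ 2 + a) (a ^ 2) (z ^ 4) (x ^ 4) (y ^ 4) := by
  have h2 : (2 : K) = 0 := CharTwo.two_eq_zero
  have e1 : a ^ 4 = a ^ 2 + a := by linear_combination a * ha
  have e2 : (a ^ 2) ^ 4 = a := by
    linear_combination (a ^ 5 + a ^ 3 + a ^ 2 + a + 2) * ha + (a ^ 2 + a + 1) * h2
  have e3 : (a ^ 2 + a) ^ 4 = a ^ 2 := by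
    linear_combination e2 + e1 + (2 * a ^ 7 + 3 * a ^ 6 + 2 * a ^ 5 + a) * h2
  rw [FF, FF, ph_add, ph_add, ph_add, ph_smul, ph_smul, ph_smul, ph_EE hX, ph_EE hX, ph_EE hX, ph_E0 hX, e1, e2, e3]
  module

end Frob

theorem exists_root_a {K : Type*} [Field K] [IsAlgClosed K] [CharP K 2] : ∃ a : K, a ^ 3 = a + 1 := by
  obtain ⟨a, ha⟩ := IsAlgClosed.exists_root (Polynomial.X ^ 3 - Polynomial.X - 1 : Polynomial K) (by
    have h1 : (Polynomial.X ^ 3 - Polynomial.X - 1 : Polynomial K).degree = 3 := by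
      compute_degree!
    rw [h1]
    decide)
  refine ⟨a, ?_⟩
  rw [Polynomial.IsRoot.def] at ha
  simp only [Polynomial.eval_sub, Polynomial.eval_pow, Polynomial.eval_X, Polynomial.eval_one] at ha
  linear_combination ha

theorem exists_root_u {K : Type*} [Field K] [IsAlgClosed K] [CharP K 2] : ∃ u : K, u ^ 13 = 1 ∧ u ≠ 1 := by
  have h13 : ((13 : ℕ) : K) ≠ 0 := by
    intro h0
    rw [CharP.cast_eq_zero_iff K 2] at h0
    omega
  have : NeZero ((13 : ℕ) : K) := ⟨h13⟩
  obtain ⟨u, hu⟩ := IsAlgClosed.exists_root (Polynomial.cyclotomic 13 K) (by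
    rw [Polynomial.degree_cyclotomic]
    have : Nat.totient 13 = 12 := by rw [Nat.totient_prime (by decide)]
    rw [this]
    norm_num)
  have h1 := Polynomial.isRoot_cyclotomic_iff.1 hu
  exact ⟨u, h1.pow_eq_one, h1.ne_one (by norm_num)⟩

/-- **The element of order 13**, commuting with everything that commutes with `X`. -/
theorem exists_thirteen_gen' {K : Type*} [Field K] [IsAlgClosed K] [CharP K 2] {n : Type*} [Fintype n] [DecidableEq n]
    {X : Matrix n n K} (h0 : X ≠ 0) (h : X ^ 4 + X ^ 2 + X = 0) (hX : (X.map (fun x => x ^ 4))ᵀ = X) :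
    ∃ g : SpecialLinearGroup n K, (∀ Y : Matrix n n K, Y * X = X * Y → Y * g.1 = g.1 * Y) ∧ g ^ 13 = 1 ∧ g ≠ 1 ∧
      (g⁻¹.1.map (fun x => x ^ 4))ᵀ = g.1 := by
  obtain ⟨a, ha⟩ := exists_root_a (K := K)
  obtain ⟨u, hu, hu1⟩ := exists_root_u (K := K)
  have hX' : ph X = X := hX
  obtain ⟨G, hG⟩ : ∃ G, G = FF X a (a ^ 2 + a) (a ^ 2) u (u ^ 9) (u ^ 3) := ⟨_, rfl⟩
  obtain ⟨H, hH⟩ : ∃ H, H = FF X a (a ^ 2 + a) (a ^ 2) (u ^ 12) (u ^ 4) (u ^ 10) := ⟨_, rfl⟩
  have e1 : u * u ^ 12 = 1 := by linear_combination hu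
  have e2 : u ^ 9 * u ^ 4 = 1 := by linear_combination hu
  have e3 : u ^ 3 * u ^ 10 = 1 := by linear_combination hu
  have hGH : G * H = 1 := by rw [hG, hH, FF_mul h ha, e1, e2, e3, FF_one]
  have hG13 : G ^ 13 = 1 := by
    have e4 : (u ^ 9) ^ 13 = 1 := by rw [← pow_mul, mul_comm, pow_mul, hu, one_pow]
    have e5 : (u ^ 3) ^ 13 = 1 := by rw [← pow_mul, mul_comm, pow_mul, hu, one_pow]
    rw [hG, FF_pow h ha, hu, e4, e5, FF_one]
  have hpH : ph H = G := by
    have e4 : (u ^ 10) ^ 4 = u := by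
      linear_combination (u ^ 27 + u ^ 14 + u) * hu
    have e5 : (u ^ 12) ^ 4 = u ^ 9 := by
      linear_combination (u ^ 35 + u ^ 22 + u ^ 9) * hu
    have e6 : (u ^ 4) ^ 4 = u ^ 3 := by
      linear_combination (u ^ 3) * hu
    rw [hH, hG, ph_FF hX' ha, e4, e5, e6]
  have hd1 : G.det * H.det = 1 := by rw [← det_mul, hGH, det_one]
  have hd2 : H.det ^ 4 = G.det := by rw [← det_ph, hpH]
  have hd3 : G.det ^ 13 = 1 := by rw [← det_pow, hG13, det_one]
  have hdet : G.det = 1 := by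
    have h5 : H.det ^ 5 = 1 := by rw [← hd1, ← hd2]; ring
    have h4 : G.det ^ 5 = 1 := by
      rw [← hd2, ← pow_mul, mul_comm, pow_mul, h5, one_pow]
    have h6 : G.det ^ 25 = 1 := by
      rw [show 25 = 5 * 5 from rfl, pow_mul, h4, one_pow]
    have h7 : G.det ^ 26 = 1 := by
      rw [show 26 = 13 * 2 from rfl, pow_mul, hd3, one_pow]
    rw [pow_succ, h6, one_mul] at h7
    exact h7
  obtain ⟨g, hg⟩ : ∃ g : SpecialLinearGroup n K, g.1 = G := ⟨⟨G, hdet⟩, rfl⟩
  refine ⟨g, ?_, ?_, ?_, ?_⟩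
  · intro Y hY
    rw [hg, hG]
    exact commute_FF hY _ _ _ _ _ _
  · apply Subtype.ext
    change (g ^ 13).1 = 1
    rw [SpecialLinearGroup.coe_pow, hg]
    exact hG13
  · intro h1
    have h2 : G = 1 := by rw [← hg, h1]; rfl
    -- `E_a = 0`
    have h3 : EE X a = 0 := by
      have e4 : G * EE X a = u • EE X a := by
        have hb := root_add ha
        have hc := root_sq ha
        rw [hG, FF, add_mul, add_mul, add_mul, smul_mul_assoc, smul_mul_assoc, smul_mul_assoc, E0_EE h ha,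
          EE_self h ha, EE_ne h ha (Or.inr rfl), EE_ne h ha (Or.inl rfl), smul_zero, smul_zero, add_zero, add_zero,
          zero_add]
      rw [h2, one_mul] at e4
      have e5 : (u - 1) • EE X a = 0 := by
        rw [sub_smul, one_smul, ← e4, sub_self]
      rcases smul_eq_zero.1 e5 with h6 | h6
      · exact absurd (sub_eq_zero.1 h6) hu1
      · exact h6
    have h4 : EE X (a ^ 2 + a) = 0 := by
      have e4 : a ^ 4 = a ^ 2 + a := by linear_combination a * ha
      rw [← e4, ← ph_EE hX', h3]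
      ext i j
      simp [ph]
    have h5 : EE X (a ^ 2) = 0 := by
      have e4 : (a ^ 2 + a) ^ 4 = a ^ 2 := by
        have h2 : (2 : K) = 0 := CharTwo.two_eq_zero
        linear_combination (a ^ 5 + a ^ 3 + a ^ 2 + a + 2) * ha + (a ^ 2 + a + 1) * h2 + a * ha +
          (2 * a ^ 7 + 3 * a ^ 6 + 2 * a ^ 5 + a) * h2
      rw [← e4, ← ph_EE hX', h4]
      ext i j
      simp [ph]
    have h6 : (1 : Matrix n n K) = E0 X := by
      rw [← FF_one (X := X) (a := a), FF, h3, h4, h5, smul_zero, add_zero, add_zero, add_zero]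
    apply h0
    rw [← mul_one X, h6, X_mul_E0 h]
  · have h1 : (g⁻¹).1 = H := by
      have h2 : g.1 * (g⁻¹).1 = 1 := by
        have h3 : (g * g⁻¹).1 = 1 := by rw [mul_inv_cancel]; rfl
        rwa [SpecialLinearGroup.coe_mul] at h3
      have h3 : H * g.1 = 1 := by rw [hg]; exact mul_eq_one_comm.1 hGH
      calc (g⁻¹).1 = H * g.1 * (g⁻¹).1 := by rw [h3, one_mul]
        _ = H * (g.1 * (g⁻¹).1) := by rw [mul_assoc]
        _ = H := by rw [h2, mul_one]
    rw [h1, hg]
    exact hpH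

/-- the element of order 13 -/
theorem exists_thirteen_gen {K : Type*} [Field K] [IsAlgClosed K] [CharP K 2] {n : Type*} [Fintype n] [DecidableEq n]
    {X : Matrix n n K} (h0 : X ≠ 0) (h : X ^ 4 + X ^ 2 + X = 0) (hX : (X.map (fun x => x ^ 4))ᵀ = X) :
    ∃ g : SpecialLinearGroup n K, g.1 * X = X * g.1 ∧ g ^ 13 = 1 ∧ g ≠ 1 ∧ (g⁻¹.1.map (fun x => x ^ 4))ᵀ = g.1 := by
  obtain ⟨g, h1, h2⟩ := exists_thirteen_gen' h0 h hX
  exact ⟨g, (h1 X rfl).symm, h2⟩

/-- over the algebraic closure of the field with two elements (the hypothesis on the trace is not needed) -/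
theorem exists_thirteen {X : Matrix (Fin 5) (Fin 5) (AlgebraicClosure (ZMod 2))} (h0 : X ≠ 0)
    (h : X ^ 4 + X ^ 2 + X = 0) (hX : (X.map (fun x => x ^ 4))ᵀ = X) :
    ∃ g : SpecialLinearGroup (Fin 5) (AlgebraicClosure (ZMod 2)), g.1 * X = X * g.1 ∧ g ^ 13 = 1 ∧ g ≠ 1 ∧
      (g⁻¹.1.map (fun x => x ^ 4))ᵀ = g.1 :=
  haveI : CharP (AlgebraicClosure (ZMod 2)) 2 :=
    charP_of_injective_algebraMap (algebraMap (ZMod 2) (AlgebraicClosure (ZMod 2))).injective 2
  exists_thirteen_gen h0 h hX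

/-- over the algebraic closure of the field with two elements, commuting with everything that commutes with `X` -/
theorem exists_thirteen' {X : Matrix (Fin 5) (Fin 5) (AlgebraicClosure (ZMod 2))} (h0 : X ≠ 0)
    (h : X ^ 4 + X ^ 2 + X = 0) (hX : (X.map (fun x => x ^ 4))ᵀ = X) :
    ∃ g : SpecialLinearGroup (Fin 5) (AlgebraicClosure (ZMod 2)),
      (∀ Y : Matrix (Fin 5) (Fin 5) (AlgebraicClosure (ZMod 2)), Y * X = X * Y → Y * g.1 = g.1 * Y) ∧
      g ^ 13 = 1 ∧ g ≠ 1 ∧ (g⁻¹.1.map (fun x => x ^ 4))ᵀ = g.1 :=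
  haveI : CharP (AlgebraicClosure (ZMod 2)) 2 :=
    charP_of_injective_algebraMap (algebraMap (ZMod 2) (AlgebraicClosure (ZMod 2))).injective 2
  exists_thirteen_gen' h0 h hX

end Cfsg.Agent.H531.L34
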